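import Mathlib

/-!
# A Singer element of `SL₃(q)`

An element of order `q² + q + 1` with cyclic centraliser, diagonal over the field of `q³` elements.
-/

set_option autoImplicit false

namespace CfsgLib.GTwoSinger

open Matrix
open scoped MatrixGroups

theorem coe_sl_pow {R : Type*} [CommRing R] (M : SpecialLinearGroup (Fin 3) R) (n : ℕ) :
    ((M ^ n : SpecialLinearGroup (Fin 3) R) : Matrix (Fin 3) (Fin 3) R) =
      (M : Matrix (Fin 3) (Fin 3) R) ^ n :=
  Matrix.SpecialLinearGroup.coe_pow M n

/-- A Singer element together with a diagonalisation. -/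
theorem exists_singer {F : Type*} [Field F] [Finite F] {q : ℕ} (hq : Nat.card F = q) :
    ∃ (L : Type) (_ : Field L) (f : F →+* L) (ζ : Lˣ) (Y : SpecialLinearGroup (Fin 3) F)
      (A : SpecialLinearGroup (Fin 3) L),
      orderOf ζ = q ^ 2 + q + 1 ∧ orderOf Y = q ^ 2 + q + 1 ∧
      (∀ M : SpecialLinearGroup (Fin 3) F, M * Y = Y * M → M ∈ Subgroup.zpowers Y) ∧
      ((A * SpecialLinearGroup.map f Y * A⁻¹ : SpecialLinearGroup (Fin 3) L) :
        Matrix (Fin 3) (Fin 3) L) = diagonal fun j : Fin 3 => ((ζ ^ q ^ (j : ℕ) : Lˣ) : L) := by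
  obtain ⟨p, hp⟩ := CharP.exists F
  haveI : Fact p.Prime := ⟨CharP.char_is_prime F p⟩
  let L := FiniteField.Extension F p 3
  haveI : Fintype L := Fintype.ofFinite L
  have hL : Nat.card L = q ^ 3 := by rw [← hq]; exact FiniteField.natCard_extension F p 3
  have hfr : Module.finrank F L = 3 := FiniteField.finrank_extension F p 3
  have h2 : 2 ≤ q := hq ▸ (Finite.one_lt_card : 1 < Nat.card F)
  set N := q ^ 2 + q + 1 with hN
  have hfac : q ^ 3 - 1 = (q - 1) * N := by
    obtain ⟨m, rfl⟩ : ∃ m, q = m + 1 := ⟨q - 1, by omega⟩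
    simp only [hN, Nat.add_sub_cancel]
    have : (m + 1) ^ 3 = m * ((m + 1) ^ 2 + (m + 1) + 1) + 1 := by ring
    omega
  -- an element of norm one generating the kernel of the norm
  obtain ⟨gen, hgen⟩ := IsCyclic.exists_ofOrder_eq_natCard (α := Lˣ)
  rw [Nat.card_units, hL] at hgen
  set z : Lˣ := gen ^ (q - 1) with hz
  have hordz : orderOf z = N := by
    rw [hz, orderOf_pow_of_dvd (by omega) (hgen ▸ hfac ▸ dvd_mul_right _ _), hgen, hfac,
      Nat.mul_div_cancel_left _ (by omega)]
  have hnorm : ∀ x : L, algebraMap F L (Algebra.norm F x) = x ^ N := fun x => by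
    rw [FiniteField.algebraMap_norm_eq_pow_sum F L, hfr, hq]
    congr 1
    simp [Finset.sum_range_succ, hN]
    ring
  -- the conjugates are distinct
  set lam : Fin 3 → L := fun j => ((z ^ q ^ (j : ℕ) : Lˣ) : L) with hlam
  have hinj : Function.Injective lam := by
    intro a b hab
    have h := pow_inj_mod.1 (Units.ext hab : z ^ q ^ (a : ℕ) = z ^ q ^ (b : ℕ))
    rw [hordz] at h
    have hlt : ∀ c : Fin 3, q ^ (c : ℕ) < N := fun c => by
      have : q ^ (c : ℕ) ≤ q ^ 2 := Nat.pow_le_pow_right (by omega) (by omega)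
      omega
    rw [Nat.mod_eq_of_lt (hlt a), Nat.mod_eq_of_lt (hlt b)] at h
    exact Fin.ext (Nat.pow_right_injective h2 h)
  set V : Matrix (Fin 3) (Fin 3) L := vandermonde lam with hV
  have hVdet : V.det ≠ 0 := det_vandermonde_ne_zero_iff.2 hinj
  let σ : Fin 3 → (L ≃ₐ[F] L) := fun j => FiniteField.Extension.frob F p 3 ^ (j : ℕ)
  have hσ : ∀ j, σ j (z : L) = lam j := fun j => by
    show (FiniteField.Extension.frob F p 3 ^ (j : ℕ)) (z : L) = _
    rw [FiniteField.Extension.frob_iterate_apply, hq]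
    simp only [hlam, Units.val_pow_eq_pow_val]
  -- the powers of the element form a basis
  have hli : LinearIndependent F fun k : Fin 3 => (z : L) ^ (k : ℕ) := by
    rw [Fintype.linearIndependent_iff]
    intro a ha
    have h0 : V *ᵥ (fun k => algebraMap F L (a k)) = 0 := by
      funext j
      have := congrArg (σ j) ha
      simp only [map_sum, map_smul, map_pow, hσ, map_zero, Algebra.smul_def] at this
      rw [Pi.zero_apply, ← this]
      simp [mulVec, dotProduct, hV, hσ, mul_comm]
    intro k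
    exact (algebraMap F L).injective
      ((congrFun (eq_zero_of_mulVec_eq_zero hVdet h0) k).trans (map_zero _).symm)
  let b : Module.Basis (Fin 3) F L :=
    basisOfLinearIndependentOfCardEqFinrank hli (by rw [hfr, Fintype.card_fin])
  have hb : ∀ k, b k = (z : L) ^ (k : ℕ) := fun k => by
    simp only [b, coe_basisOfLinearIndependentOfCardEqFinrank]
  set f := Algebra.leftMulMatrix b with hfdef
  have hdetY : (f (z : L)).det = 1 := by
    rw [← Algebra.norm_eq_matrix_det b]
    apply (algebraMap F L).injective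
    rw [hnorm, map_one, ← Units.val_pow_eq_pow_val, ← hordz, pow_orderOf_eq_one, Units.val_one]
  let Y : SpecialLinearGroup (Fin 3) F := ⟨f (z : L), hdetY⟩
  have hYpow : ∀ n : ℕ, ((Y ^ n : SpecialLinearGroup (Fin 3) F) : Matrix (Fin 3) (Fin 3) F) =
      f ((z ^ n : Lˣ) : L) := fun n => by
    rw [coe_sl_pow, Units.val_pow_eq_pow_val, map_pow]
  have hYord : orderOf Y = N := by
    rw [← hordz]
    apply orderOf_eq_orderOf_iff.2
    intro n
    constructor
    · intro h
      apply Units.ext
      apply Algebra.leftMulMatrix_injective b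
      show f ((z ^ n : Lˣ) : L) = f ((1 : Lˣ) : L)
      rw [← hYpow, h, Units.val_one, map_one]
      rfl
    · intro h
      apply Subtype.ext
      show ((Y ^ n : SpecialLinearGroup (Fin 3) F) : Matrix (Fin 3) (Fin 3) F) = _
      rw [hYpow, h, Units.val_one, map_one]
      rfl
  have hcent : ∀ M : SpecialLinearGroup (Fin 3) F, M * Y = Y * M → M ∈ Subgroup.zpowers Y := by
    intro M hM
    have hc : Commute (M : Matrix (Fin 3) (Fin 3) F) (f (z : L)) := congrArg Subtype.val hM
    have hall : ∀ x : L, Commute (M : Matrix (Fin 3) (Fin 3) F) (f x) := by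
      intro x
      rw [← b.sum_repr x, map_sum]
      refine Commute.sum_right _ _ _ fun k _ => ?_
      rw [map_smul, hb, map_pow]
      exact (hc.pow_right _).smul_right _
    set m : L := b.equivFun.symm ((M : Matrix (Fin 3) (Fin 3) F) *ᵥ b.repr 1) with hm
    have hmr : ⇑(b.repr m) = (M : Matrix (Fin 3) (Fin 3) F) *ᵥ b.repr 1 := by
      rw [hm]
      exact b.equivFun.apply_symm_apply _
    have hMm : (M : Matrix (Fin 3) (Fin 3) F) = f m := by
      refine Matrix.ext_of_mulVec_single fun k => ?_
      have hs : Pi.single k 1 = ⇑(b.repr (b k)) := by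
        rw [b.repr_self, Finsupp.single_eq_pi_single]
      rw [hs, hfdef, Algebra.leftMulMatrix_mulVec_repr,
        show ⇑(b.repr (b k)) = f (b k) *ᵥ b.repr 1 by
          rw [hfdef, Algebra.leftMulMatrix_mulVec_repr, mul_one],
        mulVec_mulVec, (hall (b k)).eq, ← mulVec_mulVec, ← hmr, hfdef,
        Algebra.leftMulMatrix_mulVec_repr, mul_comm]
    have hm1 : m ^ N = 1 := by
      rw [← hnorm, Algebra.norm_eq_matrix_det b, ← hfdef, ← hMm, M.det_coe, map_one]
    haveI : NeZero N := ⟨by omega⟩
    have hprim : IsPrimitiveRoot (z : L) N := by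
      rw [← hordz, ← orderOf_units]
      exact IsPrimitiveRoot.orderOf _
    obtain ⟨i, -, hi⟩ := hprim.eq_pow_of_pow_eq_one hm1
    refine ⟨(i : ℤ), ?_⟩
    show Y ^ (i : ℤ) = M
    rw [zpow_natCast]
    apply Subtype.ext
    show ((Y ^ i : SpecialLinearGroup (Fin 3) F) : Matrix (Fin 3) (Fin 3) F) = _
    rw [hYpow, Units.val_pow_eq_pow_val, hi, hMm]
  -- the diagonalisation
  set dV : Matrix (Fin 3) (Fin 3) L := diagonal (Function.update (fun _ => (1 : L)) 0 V.det⁻¹)
    with hdV
  have hA : (dV * V).det = 1 := by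
    rw [det_mul, hdV, det_diagonal, Fin.prod_univ_three]
    simp [Function.update, inv_mul_cancel₀ hVdet]
  let A : SpecialLinearGroup (Fin 3) L := ⟨dV * V, hA⟩
  have hVY : V * (f (z : L)).map (algebraMap F L) = diagonal lam * V := by
    ext j i
    rw [diagonal_mul, hV, mul_apply, vandermonde_apply]
    have h := congrArg (σ j) (b.sum_repr ((z : L) * b i))
    simp only [map_sum, map_smul, map_mul, hb, map_pow, hσ, Algebra.smul_def,
      AlgEquiv.commutes] at h
    rw [← h]
    refine Finset.sum_congr rfl fun k _ => ?_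
    rw [vandermonde_apply, map_apply, Algebra.leftMulMatrix_eq_repr_mul, hb, mul_comm]
  refine ⟨L, inferInstance, algebraMap F L, z, Y, A, hordz, hYord, hcent, ?_⟩
  have hcomm : dV * diagonal lam = diagonal lam * dV := by
    rw [hdV, diagonal_mul_diagonal, diagonal_mul_diagonal]
    simp only [mul_comm]
  have key : (dV * V) * (f (z : L)).map (algebraMap F L) = diagonal lam * (dV * V) := by
    rw [Matrix.mul_assoc, hVY, ← Matrix.mul_assoc, hcomm, Matrix.mul_assoc]
  have hinv : (A : Matrix (Fin 3) (Fin 3) L) * ((A⁻¹ : SpecialLinearGroup (Fin 3) L) :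
      Matrix (Fin 3) (Fin 3) L) = 1 := congrArg Subtype.val (mul_inv_cancel A)
  calc (dV * V) * (f (z : L)).map (algebraMap F L) *
        ((A⁻¹ : SpecialLinearGroup (Fin 3) L) : Matrix (Fin 3) (Fin 3) L)
      = diagonal lam * ((A : Matrix (Fin 3) (Fin 3) L) *
          ((A⁻¹ : SpecialLinearGroup (Fin 3) L) : Matrix (Fin 3) (Fin 3) L)) := by
        rw [key, Matrix.mul_assoc]
    _ = diagonal lam := by rw [hinv, Matrix.mul_one]

end CfsgLib.GTwoSinger
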