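import Cfsg.Agent.Chevalley.BruhatUnique
import Cfsg.Agent.ChevTorus.Scaling

/-!
# The centraliser of a regular element of the torus

If the values of a torus element on the roots are pairwise distinct and different from `1`, an
element of the Chevalley group commuting with it lies in the diagonal subgroup.
-/

set_option autoImplicit false

namespace CfsgLib.GTwoSinger

open Cfsg.Lie CfsgLib.Chevalley CfsgLib.ChevTorus

variable {D : ChevalleyDatum} {F : Type*} [Field F]

/-- The values on the roots are pairwise distinct and none equals `1`. -/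
def SepVals (c : Fin D.rank → Fˣ) : Prop :=
  Function.Injective (fun r : Root D => torVal c (Sum.inr r)) ∧
    ∀ r : Root D, torVal c (Sum.inr r) ≠ 1

theorem torVal_inl (c : Fin D.rank → Fˣ) (i : Fin D.rank) : torVal c (Sum.inl i : D.Idx) = 1 := by
  simp [torVal, wt]

theorem torC_mem_diag (hW : GoodWeyl D) (c : Fin D.rank → Fˣ) :
    torC D c ∈ D.diagonalSubgroup F := by
  rw [diagonalSubgroup_eq_range hW]
  exact ⟨c, rfl⟩

/-- A regular element commutes with no nontrivial element of `U`. -/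
theorem eq_one_of_commute_torC (hW : GoodWeyl D) {c : Fin D.rank → Fˣ} (hc : SepVals c)
    {u : GL D.Idx F} (hu : u ∈ D.posUnipotent F) (he : torC D c * u = u * torC D c) : u = 1 := by
  rw [posUnipotent_eq hW.good] at hu
  have hlow := isLower_of_mem hW.good hu
  apply Units.ext
  ext a b
  rcases eq_or_ne a b with rfl | hab
  · rw [hlow.1, Units.val_one, Matrix.one_apply_eq]
  rw [Units.val_one, Matrix.one_apply_ne hab]
  by_cases hval : torVal c a = torVal c b
  · rcases a with i | r <;> rcases b with j | s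
    · exact hlow.2 _ _ hab (by simp [ord])
    · rw [torVal_inl] at hval; exact absurd hval.symm (hc.2 s)
    · rw [torVal_inl] at hval; exact absurd hval (hc.2 r)
    · exact absurd (congrArg Sum.inr (hc.1 hval)) hab
  · have e := congrArg (fun g : GL D.Idx F => (g : Matrix D.Idx D.Idx F) a b) he
    simp only [Units.val_mul, coe_torC, Matrix.diagonal_mul, Matrix.mul_diagonal] at e
    by_contra hne
    refine hval (Units.ext (mul_right_cancel₀ hne ?_))
    rw [e, mul_comm]

/-- The centraliser of a regular element of the torus in the group is the diagonal subgroup. -/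
theorem mem_diag_of_commute {C : Weyl.Cert D.rank} {M : CoxeterMatrix (Fin D.rank)}
    {R : Weyl.RootTable} (hW : GoodWeyl D) (h : Weyl.RootGood C M R) {c : Fin D.rank → Fˣ}
    (hc : SepVals c) {g : GL D.Idx F} (hg : g ∈ D.group F)
    (he : torC D c * g = g * torC D c) : g ∈ D.diagonalSubgroup F := by
  set t : GL D.Idx F := torC D c with ht
  have htd : t ∈ D.diagonalSubgroup F := torC_mem_diag hW c
  obtain ⟨⟨w, b, u⟩, ⟨hb, hu, e⟩, huniq⟩ := existsUnique_form hW h hg
  dsimp only at hb hu e huniq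
  set n := nW hW h F w with hn
  have hnN : n ∈ D.monomialSubgroup F := nW_mem hW h w
  -- the conjugate of the form is a form
  set k := n⁻¹ * t * n * t⁻¹ with hkdef
  have hk : k ∈ D.diagonalSubgroup F :=
    mul_mem ((Subgroup.mem_normalizer_iff''.1 (monomial_le_normalizer hW hnN) t).1 htd) (inv_mem htd)
  have hnk : n * k * n⁻¹ ∈ D.diagonalSubgroup F :=
    (Subgroup.mem_normalizer_iff.1 (monomial_le_normalizer hW hnN) k).1 hk
  have hu' : t * u * t⁻¹ ∈ uW hW h F w := diag_conj_rootGen hW htd hu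
  have hb' : t * b * t⁻¹ * (n * k * n⁻¹) ∈ D.borelSubgroup F :=
    mul_mem (mul_mem (mul_mem (diag_le_borel D htd) hb) (inv_mem (diag_le_borel D htd)))
      (diag_le_borel D hnk)
  have e' : t * b * t⁻¹ * (n * k * n⁻¹) * n * (t * u * t⁻¹) = g := by
    rw [hkdef, show t * b * t⁻¹ * (n * (n⁻¹ * t * n * t⁻¹) * n⁻¹) * n * (t * u * t⁻¹) =
      t * (b * n * u) * t⁻¹ by group, e, he, mul_inv_cancel_right]
  have h3 := huniq (w, t * b * t⁻¹ * (n * k * n⁻¹), t * u * t⁻¹) ⟨hb', hu', e'⟩
  simp only [Prod.mk.injEq, true_and] at h3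
  obtain ⟨h1, h2⟩ := h3
  have hu1 : u = 1 := eq_one_of_commute_torC hW hc (uW_le_pos hW h w hu)
    (mul_inv_eq_iff_eq_mul.1 h2)
  obtain ⟨v, hv, d, hd, rfl⟩ := (mem_borel_iff hW).1 hb
  have hdt : t * d * t⁻¹ = d := by rw [diag_comm hW htd hd, mul_inv_cancel_right]
  have h4 : v⁻¹ * (t * v * t⁻¹) = d * (n * k * n⁻¹)⁻¹ * d⁻¹ := by
    have : t * v * t⁻¹ * (t * d * t⁻¹) * (n * k * n⁻¹) = v * d := by rw [← h1]; group
    rw [hdt] at this
    rw [show t * v * t⁻¹ = v * d * (n * k * n⁻¹)⁻¹ * d⁻¹ by rw [← this]; group]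
    group
  have hvU : t * v * t⁻¹ ∈ D.posUnipotent F :=
    (Subgroup.mem_normalizer_iff.1 (diag_le_normalizer_pos hW htd) v).1 hv
  have h5 : v⁻¹ * (t * v * t⁻¹) = 1 := by
    have h8 : v⁻¹ * (t * v * t⁻¹) ∈ D.posUnipotent F ⊓ D.diagonalSubgroup F :=
      Subgroup.mem_inf.2 ⟨mul_mem (inv_mem hv) hvU,
        h4 ▸ mul_mem (mul_mem hd (inv_mem hnk)) (inv_mem hd)⟩
    rw [pos_inf_diag hW] at h8
    exact Subgroup.mem_bot.1 h8
  have hv1 : v = 1 := eq_one_of_commute_torC hW hc hv
    (mul_inv_eq_iff_eq_mul.1 (inv_mul_eq_one.1 h5).symm)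
  have hk1 : k = 1 := by
    rw [h5] at h4
    have h6 : (n * k * n⁻¹)⁻¹ = 1 := by
      calc (n * k * n⁻¹)⁻¹ = d⁻¹ * (d * (n * k * n⁻¹)⁻¹ * d⁻¹) * d := by group
        _ = 1 := by rw [← h4]; group
    rw [inv_eq_one] at h6
    calc k = n⁻¹ * (n * k * n⁻¹) * n := by group
      _ = 1 := by rw [h6]; group
  have hnt : t * n = n * t := by
    calc t * n = n * k * t := by rw [hkdef]; group
      _ = n * t := by rw [hk1, mul_one]
  have hπ : h.rootPerm w = 1 := by
    refine Equiv.ext fun r => hc.1 ?_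
    obtain ⟨s, hs⟩ := (monBy_nW (F := F) hW h w).conj_X r
    have e1 := torC_conj_X hW.good c (h.rootPerm w r) ((s : F) * 1)
    rw [← hs, ← ht, show t * (n * X hW.good r 1 * n⁻¹) * t⁻¹ =
      (t * n) * X hW.good r 1 * (t * n)⁻¹ by group, hnt,
      show n * t * X hW.good r 1 * (n * t)⁻¹ = n * (t * X hW.good r 1 * t⁻¹) * n⁻¹ by group,
      ht, torC_conj_X hW.good, hs] at e1
    have e2 := congrArg (fun g : GL D.Idx F => (g : Matrix D.Idx D.Idx F)) e1
    obtain ⟨i, hi⟩ := hW.toGoodUni.exists_coroot_ne F (h.rootPerm w r)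
    have e3 := congrFun (congrFun e2 (Sum.inl i)) (Sum.inr (h.rootPerm w r).rev)
    simp only [coe_X, xR_entry_coroot hW.good, if_pos, mul_one] at e3
    have e4 := mul_right_cancel₀ hi e3
    rw [mul_comm] at e4
    exact (Units.ext (mul_right_cancel₀ s.ne_zero e4)).symm
  have hw : w = 1 := by
    refine h.eq_one_of_invSet_empty (Finset.eq_empty_of_forall_notMem fun r hr => ?_)
    rw [Weyl.RootGood.mem_invSet, hπ, Equiv.Perm.one_apply] at hr
    exact hr.2 hr.1
  have hnd : n ∈ D.diagonalSubgroup F := by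
    have h7 : (⟨n, hnN⟩ : ↥(D.monomialSubgroup F)) ∈ (weylHom hW h).ker := by
      rw [MonoidHom.mem_ker]
      exact (weylHom_nW hW h w hnN).trans hw
    rw [ker_weylHom] at h7
    exact h7
  rw [← e, hu1, hv1, one_mul, mul_one]
  exact mul_mem hd hnd

end CfsgLib.GTwoSinger
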