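import Cfsg.Agent.GTwoSinger.Embed
import Cfsg.Agent.GTwoSinger.Regular
import Cfsg.Agent.GTwoSinger.Field
import Cfsg.Agent.Weyl.RootG2

/-!
# A self-centralising cyclic subgroup of order `q² + q + 1` of `G₂(q)`
-/

set_option autoImplicit false

namespace CfsgLib.GTwoSinger

open Cfsg.Lie CfsgLib.Chevalley Matrix
open scoped MatrixGroups

variable {F K : Type*} [Field F] [Field K]

theorem map_mem_group (f : F →+* K) {g : GL I F} (hg : g ∈ chevG2.group F) :
    GeneralLinearGroup.map f g ∈ chevG2.group K := by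
  have h : chevG2.group F ≤ (chevG2.group K).comap (GeneralLinearGroup.map f) := by
    refine (Subgroup.closure_le _).2 ?_
    rintro x ⟨r, t, hx⟩
    refine Subgroup.subset_closure ⟨r, f t, ?_⟩
    show (x : Matrix I I F).map f = _
    rw [hx]
    ext a b
    have h1 : chevG2.xMat F r t = xR chevG2 F r t := by
      rw [← x_eq_xR good_chevG2, ChevalleyDatum.x, dif_pos r.isLt]
    have h2 : chevG2.xMat K r (f t) = xR chevG2 K r (f t) := by
      rw [← x_eq_xR good_chevG2, ChevalleyDatum.x, dif_pos r.isLt]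
    rw [h1, h2, xR_map]
  exact h hg

/-- Every element of the diagonal subgroup comes from a diagonal element of `SL₃`. -/
theorem exists_phi_eq_of_mem_diag {g : GL I K} (hg : g ∈ chevG2.diagonalSubgroup K) :
    ∃ M : SpecialLinearGroup (Fin 3) K, phi K M = g := by
  rw [diagonalSubgroup_eq_range ReeG2.goodW] at hg
  obtain ⟨c, rfl⟩ := hg
  let c0 : Kˣ := c (0 : Fin 2)
  let c1 : Kˣ := c (1 : Fin 2)
  let y : Fin 3 → Kˣ := ![c1 * c0⁻¹, c0 * c0 * c1⁻¹, c0⁻¹]
  have hy : y 0 * y 1 * y 2 = 1 := by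
    apply Units.ext
    simp [y]
    field_simp
  have hdet : (diagonal fun a => ((y a : Kˣ) : K)).det = 1 := by
    rw [det_diagonal, Fin.prod_univ_three, ← Units.val_mul, ← Units.val_mul, hy, Units.val_one]
  refine ⟨⟨_, hdet⟩, ?_⟩
  refine (phi_diag hy (g := ⟨_, hdet⟩) rfl).trans ?_
  show torC chevG2 (diagCoord y) = torC chevG2 c
  congr 1
  funext k
  revert k
  show ∀ k : Fin 2, diagCoord y k = c k
  rw [Fin.forall_fin_two]
  constructor
  · simp [diagCoord, y, c0]
  · simp [diagCoord, y, c0, c1]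

/-! ### The root values of the diagonalised Singer element -/

/-- The first exponent of a root value. -/
def expA : Fin 12 → ℤ := ![-2, -1, -1, -1, 0, -1, 1, 0, 1, 1, 1, 2]

/-- The second exponent of a root value. -/
def expB : Fin 12 → ℤ := ![-1, -2, -1, 0, -1, 1, -1, 1, 0, 1, 2, 1]

theorem exp_bound : ∀ r s : Fin 12, |expA r - expA s| ≤ 4 ∧ |expB r - expB s| ≤ 4 ∧
    |expA r| ≤ 2 ∧ |expB r| ≤ 2 := by decide

theorem exp_inj : ∀ r s : Fin 12, expA r = expA s ∧ expB r = expB s → r = s := by decide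

theorem exp_ne : ∀ r : Fin 12, ¬(expA r = 0 ∧ expB r = 0) := by decide

theorem exp_three : ∀ r s : Fin 12, (13 : ℤ) ∣ (expA r - expA s) + (expB r - expB s) * 3 → r = s :=
  by decide

theorem exp_three_ne : ∀ r : Fin 12, ¬ (13 : ℤ) ∣ expA r + expB r * 3 := by decide

theorem exp_four : ∀ r s : Fin 12, (21 : ℤ) ∣ (expA r - expA s) + (expB r - expB s) * 4 → r = s :=
  by decide

theorem exp_four_ne : ∀ r : Fin 12, ¬ (21 : ℤ) ∣ expA r + expB r * 4 := by decide

theorem eq_zero_of_dvd_exp {a b q : ℤ} (hq : 5 ≤ q) (ha : |a| ≤ 4) (hb : |b| ≤ 4)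
    (h : q ^ 2 + q + 1 ∣ a + b * q) : a = 0 ∧ b = 0 := by
  rw [abs_le] at ha hb
  obtain ⟨k, hk⟩ := h
  have hN : 4 * q + 5 ≤ q ^ 2 + q + 1 := by nlinarith
  have hk0 : k = 0 := by
    rcases lt_trichotomy k 0 with h | h | h
    · nlinarith
    · exact h
    · nlinarith
  subst hk0
  rw [mul_zero] at hk
  have hb0 : b = 0 := by
    rcases lt_trichotomy b 0 with h | h | h
    · nlinarith
    · exact h
    · nlinarith
  subst hb0
  omega

theorem exp_sep {q : ℕ} (hq : 3 ≤ q) (r s : Fin 12)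
    (h : ((q ^ 2 + q + 1 : ℕ) : ℤ) ∣ (expA r - expA s) + (expB r - expB s) * q) : r = s := by
  push_cast at h
  rcases eq_or_lt_of_le hq with rfl | h4
  · exact exp_three r s (by norm_num at h ⊢; exact h)
  rcases eq_or_lt_of_le (Nat.succ_le_of_lt h4) with rfl | h5
  · exact exp_four r s (by norm_num at h ⊢; exact h)
  · obtain ⟨ha, hb⟩ := eq_zero_of_dvd_exp (by omega) (exp_bound r s).1 (exp_bound r s).2.1 h
    exact exp_inj r s ⟨by omega, by omega⟩

theorem exp_sep_zero {q : ℕ} (hq : 3 ≤ q) (r : Fin 12) :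
    ¬ ((q ^ 2 + q + 1 : ℕ) : ℤ) ∣ expA r + expB r * q := by
  intro h
  push_cast at h
  rcases eq_or_lt_of_le hq with rfl | h4
  · exact exp_three_ne r (by norm_num at h ⊢; exact h)
  rcases eq_or_lt_of_le (Nat.succ_le_of_lt h4) with rfl | h5
  · exact exp_four_ne r (by norm_num at h ⊢; exact h)
  · obtain ⟨-, -, ha, hb⟩ := exp_bound r r
    exact exp_ne r (eq_zero_of_dvd_exp (by omega) (by omega) (by omega) h)

theorem singer_prod {q : ℕ} {z : Kˣ} (hz : orderOf z = q ^ 2 + q + 1) :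
    z ^ q ^ 0 * z ^ q ^ 1 * z ^ q ^ 2 = 1 := by
  rw [← pow_add, ← pow_add, pow_zero, pow_one, show 1 + q + q ^ 2 = q ^ 2 + q + 1 by ring, ← hz,
    pow_orderOf_eq_one]

theorem sepVals_singer {q : ℕ} (hq : 3 ≤ q) {z : Kˣ} (hz : orderOf z = q ^ 2 + q + 1) :
    SepVals (D := chevG2) (diagCoord fun j : Fin 3 => z ^ q ^ (j : ℕ)) := by
  set y : Fin 3 → Kˣ := fun j => z ^ q ^ (j : ℕ) with hy
  have hprod : y 0 * y 1 * y 2 = 1 := singer_prod hz
  have hval : ∀ r : Fin 12, dVal y (wOf r) = z ^ (expA r + expB r * q) := by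
    intro r
    have h0 : y 0 = z := by simp [hy]
    have h1 : y 1 = z ^ (q : ℤ) := by simp [hy]
    have h2 : y 2 = z⁻¹ * (z ^ (q : ℤ))⁻¹ := by
      rw [← mul_inv, eq_inv_iff_mul_eq_one, ← h1, ← h0, ← hprod]; ac_rfl
    show Sum.elim (fun p => y p.1 * (y p.2)⁻¹) (Sum.elim y fun a => (y a)⁻¹)
        ((![Sum.inl (2, 0), Sum.inl (2, 1), Sum.inr (Sum.inl 2), Sum.inr (Sum.inr 0),
          Sum.inr (Sum.inr 1), Sum.inl (1, 0), Sum.inl (0, 1), Sum.inr (Sum.inl 1),
          Sum.inr (Sum.inl 0), Sum.inr (Sum.inr 2), Sum.inl (1, 2), Sum.inl (0, 2)] : Fin 12 → W) r) = _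
    rw [_root_.zpow_add, mul_comm (expB r), _root_.zpow_mul]
    generalize z ^ (q : ℤ) = u at h1 h2 ⊢
    apply Units.ext
    fin_cases r <;>
      (simp [h0, h1, h2, expA, expB, zpow_ofNat]
       try field_simp)
  constructor
  · intro r s h
    simp only [torVal_diagCoord hprod] at h
    have h' : z ^ (expA r + expB r * (q : ℤ)) = z ^ (expA s + expB s * (q : ℤ)) :=
      (hval r).symm.trans (h.trans (hval s))
    refine exp_sep hq r s ?_
    rw [← hz, orderOf_dvd_iff_zpow_eq_one,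
      show expA r - expA s + (expB r - expB s) * (q : ℤ) =
        (expA r + expB r * q) - (expA s + expB s * q) by ring, _root_.zpow_sub, h', mul_inv_cancel]
  · intro r h
    rw [torVal_diagCoord hprod, show dVal y (wOf r) = z ^ (expA r + expB r * (q : ℤ)) from hval r,
      ← orderOf_dvd_iff_zpow_eq_one, hz] at h
    exact exp_sep_zero hq r h

/-- The main theorem. -/
theorem main [Finite F] {q : ℕ} (hF : Nat.card F = q) (hq : 3 ≤ q) :
    ∃ H : Subgroup ↥(chevG2.group F), IsCyclic ↥H ∧ Nat.card ↥H = q ^ 2 + q + 1 ∧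
      Subgroup.centralizer (H : Set ↥(chevG2.group F)) = H := by
  obtain ⟨L, _, f, z, Y, A, hz, hY, hcent, hdiag⟩ := exists_singer (F := F) hF
  let Φ : SpecialLinearGroup (Fin 3) F →* ↥(chevG2.group F) :=
    (phi F).codRestrict _ phi_mem_group
  have hΦ : Function.Injective Φ := fun a b h => phi_injective (congrArg Subtype.val h)
  refine ⟨Subgroup.zpowers (Φ Y), inferInstance, ?_, le_antisymm ?_ ?_⟩
  · rw [Nat.card_zpowers, orderOf_injective Φ hΦ, hY]
  · intro x hx
    have hxY : (x : GL I F) * phi F Y = phi F Y * x :=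
      congrArg Subtype.val (Subgroup.mem_centralizer_iff.1 hx _ (Subgroup.mem_zpowers _)).symm
    set fG : GL I F →* GL I L := GeneralLinearGroup.map f with hfG
    set P := phi L A with hP
    have hD : P * fG (phi F Y) * P⁻¹ =
        torC chevG2 (diagCoord fun j : Fin 3 => z ^ q ^ (j : ℕ)) := by
      rw [hP, hfG, ← phi_map, ← map_inv, ← map_mul, ← map_mul]
      exact phi_diag (singer_prod hz) hdiag
    have hZ : P * fG x * P⁻¹ ∈ chevG2.diagonalSubgroup L := by
      refine mem_diag_of_commute ReeG2.goodW Weyl.rootG2_good (sepVals_singer hq hz)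
        (mul_mem (mul_mem (phi_mem_group A) (map_mem_group f x.2)) (inv_mem (phi_mem_group A))) ?_
      rw [← hD, show P * fG (phi F Y) * P⁻¹ * (P * fG x * P⁻¹) =
        P * (fG (phi F Y) * fG x) * P⁻¹ by group, ← map_mul, ← hxY, map_mul]
      group
    obtain ⟨Mu, hMu⟩ := exists_phi_eq_of_mem_diag hZ
    set M1 := A⁻¹ * Mu * A with hM1
    have hM1x : phi L M1 = fG x := by
      rw [hM1, map_mul, map_mul, map_inv, hMu, hP]
      group
    -- the entries of the conjugate are rational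
    let M0 : Matrix (Fin 3) (Fin 3) F := Matrix.of fun a b =>
      ((x : GL I F) : Matrix I I F) (Sum.inr (vRoot a)) (Sum.inr (vRoot b))
    have hM0 : M0.map f = (M1 : Matrix (Fin 3) (Fin 3) L) := by
      ext a b
      have h1 := phi_apply_v M1 a b
      rw [hM1x] at h1
      exact h1
    have hdet : M0.det = 1 := by
      apply f.injective
      rw [RingHom.map_det, RingHom.mapMatrix_apply, hM0, map_one]
      exact M1.2
    let Ms : SpecialLinearGroup (Fin 3) F := ⟨M0, hdet⟩
    have hMs : phi F Ms = x := by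
      have hmap : SpecialLinearGroup.map f Ms = M1 := Subtype.ext hM0
      have h2 : fG (phi F Ms) = fG x := by rw [hfG, ← phi_map, hmap, hM1x, hfG]
      refine Units.ext (Matrix.ext fun a b => f.injective ?_)
      exact congrArg (fun g : GL I L => (g : Matrix I I L) a b) h2
    have hcomm : Ms * Y = Y * Ms := phi_injective (by rw [map_mul, map_mul, hMs, hxY])
    obtain ⟨n, hn⟩ := hcent Ms hcomm
    refine ⟨n, Subtype.ext ?_⟩
    show ((Φ Y ^ n : ↥(chevG2.group F)) : GL I F) = x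
    rw [← map_zpow, ← hMs, ← hn]
    rfl
  · intro x hx
    refine Subgroup.mem_centralizer_iff.2 fun y hy => ?_
    obtain ⟨m, rfl⟩ := Subgroup.mem_zpowers_iff.1 hx
    obtain ⟨k, rfl⟩ := Subgroup.mem_zpowers_iff.1 hy
    exact Commute.zpow_zpow_self _ _ _

end CfsgLib.GTwoSinger
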